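import Groth.Prelude.Def_FDesc
import Groth.Agent.H23.RedSub
import Mathlib.LinearAlgebra.TensorProduct.Basis
import Mathlib.AlgebraicGeometry.IdealSheaf.Functorial
import Mathlib.AlgebraicGeometry.Morphisms.UniversallyOpen

/-!
# Schematic closures of families of geometrically reduced schemes
-/

set_option autoImplicit false
set_option backward.isDefEq.respectTransparency false
set_option backward.isDefEq.respectTransparency.types false

universe u

open CategoryTheory CategoryTheory.Limits AlgebraicGeometry TensorProduct TopologicalSpace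

namespace Groth.Agent.GeomRedClos

/-- An algebra jointly injecting into algebras with reduced base change has reduced base change. -/
theorem isReduced_tensor_of_jointly_injective {k K A : Type u} [Field k] [Field K] [Algebra k K] [CommRing A]
    [Algebra k A] {J : Type u} {B : J → Type u} [∀ j, CommRing (B j)] [∀ j, Algebra k (B j)] (φ : ∀ j, A →ₐ[k] B j)
    (hinj : ∀ a, (∀ j, φ j a = 0) → a = 0) (hred : ∀ j, _root_.IsReduced (B j ⊗[k] K)) :
    _root_.IsReduced (A ⊗[k] K) := by
  refine ⟨fun x hx => ?_⟩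
  let b := Module.Free.chooseBasis k K
  apply (TensorProduct.equivFinsuppOfBasisRight b).injective
  rw [map_zero]
  ext i
  refine hinj _ fun j => ?_
  have h0 : Algebra.TensorProduct.map (φ j) (AlgHom.id k K) x = 0 :=
    haveI := hred j; (hx.map (Algebra.TensorProduct.map (φ j) (AlgHom.id k K))).eq_zero
  have key : ∀ y : A ⊗[k] K, φ j (TensorProduct.equivFinsuppOfBasisRight b y i) =
      TensorProduct.equivFinsuppOfBasisRight b (Algebra.TensorProduct.map (φ j) (AlgHom.id k K) y) i := fun y => by
    induction y using TensorProduct.induction_on with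
    | zero => simp
    | tmul a c => simp
    | add y z hy hz => simp only [map_add, Finsupp.add_apply, hy, hz]
  rw [key, h0, map_zero, Finsupp.zero_apply]

variable {k : Type u} [Field k]

theorem isReduced_bc {Z : Scheme.{u}} (h : Z ⟶ Spec (CommRingCat.of k)) (hred : ∀ z : Z, FBase.IsGeomReducedAt h z)
    (K : Type u) [Field K] [Algebra k K] :
    IsReduced (pullback h (Spec.map (CommRingCat.ofHom (algebraMap k K)))) :=
  haveI : ∀ x, _root_.IsReduced ((pullback h (Spec.map (CommRingCat.ofHom (algebraMap k K)))).presheaf.stalk x) :=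
    fun x => hred _ K x rfl
  isReduced_of_isReduced_stalk _

theorem isReduced_of_geomRed {Z : Scheme.{u}} (h : Z ⟶ Spec (CommRingCat.of k))
    (hred : ∀ z : Z, FBase.IsGeomReducedAt h z) : IsReduced Z := by
  haveI := isReduced_bc h hred k
  haveI : IsIso (Spec.map (CommRingCat.ofHom (algebraMap k k))) := by
    rw [Algebra.algebraMap_self, CommRingCat.ofHom_id, Spec.map_id]
    infer_instance
  exact isReduced_of_isOpenImmersion (inv (pullback.fst h (Spec.map (CommRingCat.ofHom (algebraMap k k)))))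

theorem isReduced_pullback_affine {Y : Scheme.{u}} [IsReduced Y] (π : Y ⟶ Spec (CommRingCat.of k)) {ι : Type u}
    (Z : ι → Scheme.{u}) (g : ∀ i, Z i ⟶ Y) (hred : ∀ i (z : Z i), FBase.IsGeomReducedAt (g i ≫ π) z)
    (hd : Dense (⋃ i, Set.range (g i))) (K : Type u) [Field K] [Algebra k K] {A : CommRingCat.{u}} (j : Spec A ⟶ Y)
    [IsOpenImmersion j] :
    IsReduced (pullback (j ≫ π) (Spec.map (CommRingCat.ofHom (algebraMap k K)))) := by
  let q := Spec.map (CommRingCat.ofHom (algebraMap k K))
  obtain ⟨φ, hφ⟩ : ∃ φ, Spec.map φ = j ≫ π := ⟨_, Spec.map_preimage _⟩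
  rw [← hφ]
  letI : Algebra k A := φ.hom.toAlgebra
  haveI : IsReduced (Spec A) := isReduced_of_isOpenImmersion j
  haveI : _root_.IsReduced A := (affine_isReduced_iff A).mp inferInstance
  let J : Type u := Σ' (i : ι) (W : (Z i).affineOpens), Set.range (W.2.fromSpec ≫ g i) ⊆ Set.range j
  let B : J → Type u := fun m => Γ(Z m.1, m.2.1)
  let l : ∀ m : J, Spec Γ(Z m.1, m.2.1) ⟶ Spec A := fun m =>
    IsOpenImmersion.lift j (m.2.1.2.fromSpec ≫ g m.1) m.2.2
  have hl : ∀ m, l m ≫ j = m.2.1.2.fromSpec ≫ g m.1 := fun m => IsOpenImmersion.lift_fac _ _ _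
  choose ψ hψ using fun m => (⟨_, Spec.map_preimage (l m)⟩ : ∃ ψ : A ⟶ Γ(Z m.1, m.2.1), Spec.map ψ = l m)
  letI : ∀ m : J, Algebra k (Γ(Z m.1, m.2.1)) := fun m => (φ ≫ ψ m).hom.toAlgebra
  have hredB : ∀ m : J, _root_.IsReduced (Γ(Z m.1, m.2.1) ⊗[k] K) := fun m => by
    have hcomp : Spec.map (φ ≫ ψ m) = m.2.1.2.fromSpec ≫ g m.1 ≫ π := by
      rw [Spec.map_comp, hψ, hφ, ← Category.assoc, hl, Category.assoc]
    haveI := isReduced_bc (g m.1 ≫ π) (hred m.1) K
    haveI : IsReduced (pullback m.2.1.2.fromSpec (pullback.fst (g m.1 ≫ π) q)) :=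
      isReduced_of_isOpenImmersion (pullback.snd m.2.1.2.fromSpec (pullback.fst (g m.1 ≫ π) q))
    haveI : IsReduced (pullback (Spec.map (φ ≫ ψ m)) q) := by
      rw [hcomp]
      exact isReduced_of_isOpenImmersion (pullbackRightPullbackFstIso (g m.1 ≫ π) q m.2.1.2.fromSpec).inv
    haveI : IsReduced (Spec (CommRingCat.of (Γ(Z m.1, m.2.1) ⊗[k] K))) :=
      isReduced_of_isOpenImmersion (pullbackSpecIso k Γ(Z m.1, m.2.1) K).inv
    exact (affine_isReduced_iff (CommRingCat.of (Γ(Z m.1, m.2.1) ⊗[k] K))).mp inferInstance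
  haveI : _root_.IsReduced (A ⊗[k] K) := by
    refine isReduced_tensor_of_jointly_injective (B := fun m : J => Γ(Z m.1, m.2.1))
      (fun m => ({ (ψ m).hom with commutes' := fun _ => rfl } : A →ₐ[k] Γ(Z m.1, m.2.1))) (fun a ha => ?_) hredB
    by_contra hne
    have hne' : (↑(PrimeSpectrum.basicOpen a) : Set (PrimeSpectrum A)).Nonempty := by
      rw [Set.nonempty_iff_ne_empty]
      intro h
      exact hne ((PrimeSpectrum.basicOpen_eq_bot_iff a).1 (SetLike.coe_injective h)).eq_zero
    obtain ⟨y, ⟨p, hp, rfl⟩, hy⟩ := hd.inter_open_nonempty _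
      (j.isOpenEmbedding.isOpenMap _ (PrimeSpectrum.basicOpen a).isOpen) (hne'.image j)
    obtain ⟨i, z, hz⟩ := Set.mem_iUnion.1 hy
    obtain ⟨W, hW, hzW, hWs⟩ := exists_isAffineOpen_mem_and_subset (x := z)
      (U := g i ⁻¹ᵁ j.opensRange) ⟨p, hz.symm⟩
    obtain ⟨w, rfl⟩ : z ∈ Set.range hW.fromSpec := hW.range_fromSpec.ge hzW
    have hm : Set.range (hW.fromSpec ≫ g i) ⊆ Set.range j := by
      rintro _ ⟨v, rfl⟩
      exact hWs (hW.range_fromSpec.le ⟨v, rfl⟩)
    let m : J := ⟨i, ⟨W, hW⟩, hm⟩
    have h1 : l m w = p := j.isOpenEmbedding.injective (by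
      rw [← Scheme.Hom.comp_apply, hl]
      exact hz)
    have h2 : ψ m a = 0 := ha m
    rw [← hψ] at h1
    subst h1
    exact hp (show ψ m a ∈ w.asIdeal from h2 ▸ w.asIdeal.zero_mem)
  haveI : IsReduced (Spec (CommRingCat.of (A ⊗[k] K))) := inferInstance
  exact isReduced_of_isOpenImmersion (pullbackSpecIso k A K).hom

/-- Reducedness after base change of a reduced scheme dominated by geometrically reduced schemes. -/
theorem isReduced_pullback_of_dense {Y : Scheme.{u}} [IsReduced Y] (π : Y ⟶ Spec (CommRingCat.of k)) {ι : Type u}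
    (Z : ι → Scheme.{u}) (g : ∀ i, Z i ⟶ Y) (hred : ∀ i (z : Z i), FBase.IsGeomReducedAt (g i ≫ π) z)
    (hd : Dense (⋃ i, Set.range (g i))) (K : Type u) [Field K] [Algebra k K] :
    IsReduced (pullback π (Spec.map (CommRingCat.ofHom (algebraMap k K)))) := by
  apply +allowSynthFailures @IsReduced.of_openCover
    (𝒰 := Scheme.Pullback.openCoverOfLeft Y.affineCover π (Spec.map (CommRingCat.ofHom (algebraMap k K))))
  intro n
  exact isReduced_pullback_affine π Z g hred hd K (Y.affineCover.f n)

/-- The ideal of the closure of the image commutes with extension of the base field. -/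
theorem vanishingIdeal_comap {X : Scheme.{u}} (p : X ⟶ Spec (CommRingCat.of k)) {ι : Type u} (Z : ι → Scheme.{u})
    (f : ∀ i, Z i ⟶ X) (hred : ∀ i (z : Z i), FBase.IsGeomReducedAt (f i ≫ p) z) (K : Type u) [Field K] [Algebra k K]
    (f' : ∀ i, pullback (f i ≫ p) (Spec.map (CommRingCat.ofHom (algebraMap k K))) ⟶
      pullback p (Spec.map (CommRingCat.ofHom (algebraMap k K))))
    (hf' : ∀ i, Set.range (f' i) = pullback.fst p _ ⁻¹' Set.range (f i)) :
    Scheme.IdealSheafData.vanishingIdeal (TopologicalSpace.Closeds.closure (⋃ i, Set.range (f' i))) =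
      (Scheme.IdealSheafData.vanishingIdeal (TopologicalSpace.Closeds.closure (⋃ i, Set.range (f i)))).comap
        (pullback.fst p (Spec.map (CommRingCat.ofHom (algebraMap k K)))) := by
  let q := Spec.map (CommRingCat.ofHom (algebraMap k K))
  let C : Closeds X := TopologicalSpace.Closeds.closure (⋃ i, Set.range (f i))
  let I := Scheme.IdealSheafData.vanishingIdeal C
  let J := I.comap (pullback.fst p q)
  have hsI : I.support = C := Closeds.ext (Scheme.IdealSheafData.coe_support_vanishingIdeal C)
  have hlift : ∀ i, ∃ g : Z i ⟶ I.subscheme, g ≫ I.subschemeι = f i := fun i => by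
    haveI := isReduced_of_geomRed (f i ≫ p) (hred i)
    have h : I.comap (f i) = ⊥ := by
      rw [← le_bot_iff, ← Scheme.nilradical_eq_bot (X := Z i), ← Scheme.IdealSheafData.vanishingIdeal_top,
        ← Scheme.IdealSheafData.le_support_iff_le_vanishingIdeal, Scheme.IdealSheafData.support_comap, hsI]
      intro z _
      exact subset_closure (Set.mem_iUnion.2 ⟨i, z, rfl⟩)
    haveI : IsIso (I.comap (f i)).subschemeι := by
      rw [Scheme.isIso_subschemeι_iff_eq_bot]; exact h
    refine ⟨inv (I.comap (f i)).subschemeι ≫ (I.comapIso (f i)).hom ≫ pullback.snd _ _, ?_⟩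
    simp only [Category.assoc, ← pullback.condition, Scheme.IdealSheafData.comapIso_hom_fst_assoc,
      IsIso.inv_hom_id_assoc]
  choose g hg using hlift
  have hd : Dense (⋃ i, Set.range (g i)) := by
    rw [I.subschemeι.isEmbedding.isInducing.dense_iff]
    intro y
    have hy : I.subschemeι y ∈ C := by
      rw [← hsI]
      exact I.range_subschemeι.le ⟨y, rfl⟩
    refine closure_mono ?_ hy
    rintro _ ⟨_, ⟨i, rfl⟩, z, rfl⟩
    refine ⟨g i z, Set.mem_iUnion.2 ⟨i, z, rfl⟩, ?_⟩
    rw [← Scheme.Hom.comp_apply, hg]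
  haveI : IsReduced (pullback (I.subschemeι ≫ p) q) :=
    isReduced_pullback_of_dense _ Z g (fun i z => by rw [← Category.assoc, hg]; exact hred i z) hd K
  haveI : IsReduced (pullback I.subschemeι (pullback.fst p q)) :=
    isReduced_of_isOpenImmersion (pullbackRightPullbackFstIso p q I.subschemeι).hom
  haveI : IsReduced J.subscheme :=
    isReduced_of_isOpenImmersion ((I.comapIso (pullback.fst p q)).hom ≫ (pullbackSymmetry _ _).hom)
  have hJ : J.radical = J := Scheme.IdealSheafData.ext (funext fun U => by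
    rw [Scheme.IdealSheafData.radical_ideal, (H23.RedSub.isRadical_of_isReduced_subscheme U).radical])
  show _ = J
  rw [← hJ, ← Scheme.IdealSheafData.vanishingIdeal_support, Scheme.IdealSheafData.support_comap, hsI]
  congr 1
  refine Closeds.ext ?_
  show closure (⋃ i, Set.range (f' i)) = pullback.fst p q ⁻¹' closure (⋃ i, Set.range (f i))
  rw [(pullback.fst p q).isOpenMap.preimage_closure_eq_closure_preimage (pullback.fst p q).continuous,
    Set.preimage_iUnion]
  simp only [hf']
  rfl

end Groth.Agent.GeomRedClos
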